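import Mathlib
import Cfsg.Agent.H56.Coprime

/-!
Counting lemmas for the elements inverted by an automorphism of square one.
-/

set_option autoImplicit false

namespace Cfsg.Agent.H64.Inverted

open Subgroup

variable {G : Type*} [Group G]

/-- `g * (α g)⁻¹`. -/
def cm (α : MulAut G) (g : G) : G := g * (α g)⁻¹

/-- The elements of odd order inverted by `α`. -/
def invSet (α : MulAut G) : Set G := {g | Odd (orderOf g) ∧ α g = g⁻¹}

/-- The fixed points of `α`. -/
def fixSub (α : MulAut G) : Subgroup G where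
  carrier := {g | α g = g}
  one_mem' := map_one α
  mul_mem' := fun {a b} ha hb => by
    show α (a * b) = a * b
    rw [map_mul, show α a = a from ha, show α b = b from hb]
  inv_mem' := fun {a} ha => by
    show α a⁻¹ = a⁻¹
    rw [map_inv, show α a = a from ha]

theorem mem_fixSub {α : MulAut G} {g : G} : g ∈ fixSub α ↔ α g = g := Iff.rfl

theorem one_mem_invSet (α : MulAut G) : (1 : G) ∈ invSet α := by
  refine ⟨?_, by simp⟩
  rw [orderOf_one]; exact odd_one

theorem alpha_cm {α : MulAut G} (h2 : ∀ g, α (α g) = g) (g : G) : α (cm α g) = (cm α g)⁻¹ := by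
  simp [cm, h2]

theorem inv_zpow_of_inverted {α : MulAut G} {y : G} (hy : α y = y⁻¹) (n : ℤ) :
    α (y ^ n) = (y ^ n)⁻¹ := by
  rw [map_zpow, hy, inv_zpow]

theorem pow_mem_invSet {α : MulAut G} {y : G} (hy : y ∈ invSet α) (n : ℕ) :
    y ^ n ∈ invSet α := by
  refine ⟨hy.1.of_dvd_nat (orderOf_pow_dvd n), ?_⟩
  rw [map_pow, hy.2, inv_pow]

/-- Elements of `invSet` have square roots in it. -/
theorem exists_sqrt {α : MulAut G} {x : G} (hx : x ∈ invSet α) :
    ∃ s ∈ invSet α, s * s = x := by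
  obtain ⟨m, hm⟩ := exists_pow_eq_self_of_coprime (x := x) (n := 2) (Nat.coprime_two_left.2 hx.1)
  refine ⟨x ^ m, pow_mem_invSet hx m, ?_⟩
  rw [← pow_two, ← pow_mul, mul_comm, pow_mul, hm]

theorem commute_of_sq {g x : G} (hx : Odd (orderOf x)) (h : Commute g (x ^ 2)) : Commute g x := by
  obtain ⟨m, hm⟩ := exists_pow_eq_self_of_coprime (x := x) (n := 2) (Nat.coprime_two_left.2 hx)
  rw [← hm]
  exact h.pow_right m

theorem mem_center_of_generated {S : Set G} (hS : closure S = ⊤) {g : G}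
    (h : ∀ x ∈ S, g * x = x * g) : g ∈ center G := by
  rw [mem_center_iff]
  intro z
  have hz : z ∈ closure S := hS ▸ mem_top z
  induction hz using Subgroup.closure_induction with
  | mem x hx => exact (h x hx).symm
  | one => simp
  | mul a b _ _ ha hb => rw [mul_assoc, hb, ← mul_assoc, ha, mul_assoc]
  | inv a _ ha => exact (Commute.inv_left (show Commute a g from ha)).eq

variable [Finite G]

/-- Split an inverted element into its two-part and its part of odd order. -/
theorem split {α : MulAut G} {y : G} (hy : α y = y⁻¹) :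
    ∃ u v : G, u * v = y ∧ u ∈ zpowers y ∧ v ∈ zpowers y ∧ v ∈ invSet α ∧ α u = u⁻¹ ∧
      ∃ a : ℕ, orderOf u = 2 ^ a := by
  obtain ⟨a, b, hb, hab⟩ := Nat.exists_eq_two_pow_mul_odd (n := orderOf y) (orderOf_pos y).ne'
  have hcop : (2 ^ a).Coprime b := (Nat.coprime_two_left.2 hb).pow_left a
  have hbez := Nat.gcd_eq_gcd_ab (2 ^ a) b
  rw [hcop.gcd_eq_one] at hbez
  push_cast at hbez
  set s := Nat.gcdA (2 ^ a) b
  set t := Nat.gcdB (2 ^ a) b
  have hyo : y ^ ((2 : ℤ) ^ a * (b : ℤ)) = 1 := by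
    have : ((2 : ℤ) ^ a * (b : ℤ)) = ((orderOf y : ℕ) : ℤ) := by rw [hab]; push_cast; rfl
    rw [this, zpow_natCast, pow_orderOf_eq_one]
  refine ⟨y ^ ((b : ℤ) * t), y ^ ((2 : ℤ) ^ a * s), ?_, zpow_mem (mem_zpowers y) _,
    zpow_mem (mem_zpowers y) _, ⟨?_, inv_zpow_of_inverted hy _⟩, inv_zpow_of_inverted hy _, ?_⟩
  · rw [← zpow_add, add_comm, ← hbez, zpow_one]
  · refine hb.of_dvd_nat (orderOf_dvd_of_pow_eq_one ?_)
    rw [← zpow_natCast, ← zpow_mul,
      show (2 : ℤ) ^ a * s * (b : ℤ) = (2 : ℤ) ^ a * (b : ℤ) * s by ring, zpow_mul, hyo, one_zpow]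
  · have hd : orderOf (y ^ ((b : ℤ) * t)) ∣ 2 ^ a := by
      refine orderOf_dvd_of_pow_eq_one ?_
      rw [← zpow_natCast, ← zpow_mul]
      push_cast
      rw [show (b : ℤ) * t * (2 : ℤ) ^ a = (2 : ℤ) ^ a * (b : ℤ) * t by ring, zpow_mul, hyo, one_zpow]
    obtain ⟨c, _, hc⟩ := (Nat.dvd_prime_pow Nat.prime_two).1 hd
    exact ⟨c, hc⟩

/-- The fibres of `cm α` are at most as large as the fixed subgroup. -/
theorem ncard_le_fix_mul (α : MulAut G) (S : Set G) :
    S.ncard ≤ Nat.card (fixSub α) * (cm α '' S).ncard := by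
  classical
  have hrep : ∀ y : ↥(cm α '' S), ∃ g : G, cm α g = y := fun y => ⟨_, y.2.choose_spec.2⟩
  choose rep hrep using hrep
  let F : ↥(fixSub α) × ↥(cm α '' S) → G := fun p => rep p.2 * p.1
  have hsub : S ⊆ Set.range F := by
    intro g hg
    set y : ↥(cm α '' S) := ⟨cm α g, ⟨g, hg, rfl⟩⟩
    have h : cm α (rep y) = cm α g := hrep y
    have hf : (rep y)⁻¹ * g ∈ fixSub α := by
      rw [mem_fixSub, map_mul, map_inv]
      simp only [cm] at h
      calc (α (rep y))⁻¹ * α g = (rep y)⁻¹ * (rep y * (α (rep y))⁻¹) * α g := by group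
        _ = (rep y)⁻¹ * g := by rw [h]; group
    exact ⟨(⟨_, hf⟩, y), by simp [F]⟩
  calc S.ncard ≤ (Set.range F).ncard := Set.ncard_le_ncard hsub
    _ ≤ Nat.card (↥(fixSub α) × ↥(cm α '' S)) := by
        rw [← Nat.card_coe_set_eq]; exact Finite.card_range_le F
    _ = _ := by rw [Nat.card_prod, Nat.card_coe_set_eq]

/-- An abelian invariant subgroup of odd order is small. -/
theorem card_abelian_odd {α : MulAut G} (h2 : ∀ g, α (α g) = g) (A : Subgroup G)
    (hA : ∀ a ∈ A, α a ∈ A) (hc : ∀ a ∈ A, ∀ b ∈ A, a * b = b * a) (ho : Odd (Nat.card A)) :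
    Nat.card A ≤ Nat.card (fixSub α) * (invSet α).ncard := by
  have h1 : ∀ a : A, (a : G) * α a ∈ fixSub α := fun a => by
    rw [mem_fixSub, map_mul, h2]
    exact hc _ (hA a a.2) _ a.2
  have h3 : ∀ a : A, cm α (a : G) ∈ invSet α := fun a => by
    refine ⟨ho.of_dvd_nat (A.orderOf_dvd_natCard ?_), alpha_cm h2 _⟩
    exact A.mul_mem a.2 (A.inv_mem (hA a a.2))
  let F : A → ↥(fixSub α) × ↥(invSet α) := fun a => (⟨_, h1 a⟩, ⟨_, h3 a⟩)
  have hF : Function.Injective F := by
    intro a b hab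
    simp only [F, Prod.mk.injEq, Subtype.mk.injEq] at hab
    have key : ∀ z : A, (z : G) * (z : G) = (z : G) * α z * cm α (z : G) := fun z => by
      simp only [cm]
      rw [hc _ z.2 _ (hA z z.2)]
      calc (z : G) * z = z * (α z)⁻¹ * α z * z := by group
        _ = cm α (z : G) * (α z * z) := by simp [cm, mul_assoc]
        _ = α z * z * cm α (z : G) :=
            hc _ (A.mul_mem z.2 (A.inv_mem (hA z z.2))) _ (A.mul_mem (hA z z.2) z.2)
        _ = _ := by simp [cm]
    have hsq : a ^ 2 = b ^ 2 := Subtype.ext (by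
      simp only [pow_two, Subgroup.coe_mul]
      rw [key a, key b, hab.1, hab.2])
    obtain ⟨n, hn⟩ := ho
    calc a = (a ^ 2) ^ (n + 1) := by
          rw [← pow_mul, show 2 * (n + 1) = Nat.card A + 1 by omega, pow_succ, pow_card_eq_one', one_mul]
      _ = (b ^ 2) ^ (n + 1) := by rw [hsq]
      _ = b := by
          rw [← pow_mul, show 2 * (n + 1) = Nat.card A + 1 by omega, pow_succ, pow_card_eq_one', one_mul]
  have := Nat.card_le_card_of_injective F hF
  rwa [Nat.card_prod, Nat.card_coe_set_eq] at this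

/-- A normal invariant `2`-subgroup meeting the centre trivially is small. -/
theorem card_two_subgroup {α : MulAut G} (h2 : ∀ g, α (α g) = g)
    (hgen : closure (invSet α) = ⊤) (Q : Subgroup G) [Q.Normal] (hQ : IsPGroup 2 Q)
    (hQα : ∀ q ∈ Q, α q ∈ Q) (hZ : Q ⊓ center G = ⊥) :
    Nat.card Q ≤ (Nat.card (fixSub α) * (invSet α).ncard) ^ (invSet α).ncard := by
  classical
  set k := Nat.card (fixSub α)
  set m := (invSet α).ncard
  have hidx : ∀ x ∈ invSet α, ((centralizer ({x} : Set G)).subgroupOf Q).index ≤ k * m := by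
    intro x hx
    obtain ⟨s, hs, hss⟩ := exists_sqrt hx
    set C := (centralizer ({x} : Set G)).subgroupOf Q
    have hw : ∀ v : ↥(invSet α), ∃ w : G, (v : G) * x⁻¹ ∈ Q → w ∈ Q ∧ w * x * w⁻¹ = v := by
      intro v
      by_cases hv : (v : G) * x⁻¹ ∈ Q
      · obtain ⟨w, hw, hw'⟩ := Cfsg.Agent.H56.exists_conj_of_coset_of_coprime
          (orderOf (v : G) * orderOf x) Q v x
          (by rw [normalizer_eq_top]; exact mem_top _)
          (by rw [pow_mul, pow_orderOf_eq_one, one_pow])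
          (by rw [mul_comm, pow_mul, pow_orderOf_eq_one, one_pow])
          (by simpa using Q.inv_mem hv)
          (by
            obtain ⟨n, hn⟩ := (IsPGroup.iff_card.1 hQ)
            rw [hn]
            exact ((Nat.coprime_two_left.2 (v.2.1.mul hx.1)).symm).pow_right n)
        exact ⟨w, fun _ => ⟨hw, hw'⟩⟩
      · exact ⟨1, fun h => absurd h hv⟩
    choose w hw using hw
    let F : ↥(invSet α) × ↥C → G := fun p => w p.1 * ((p.2 : Q) : G) * (w p.1)⁻¹ * p.1
    have hsub : cm α '' ((fun q => s * q) '' (Q : Set G)) ⊆ Set.range F := by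
      rintro _ ⟨_, ⟨q, hq, rfl⟩, rfl⟩
      set y := cm α (s * q) with hy
      have hyQ : y * x⁻¹ ∈ Q := by
        have e : y * x⁻¹ = s * (q * (α q)⁻¹) * s⁻¹ := by
          simp only [hy, cm, map_mul, hs.2, ← hss]; group
        rw [e]
        exact (inferInstance : Q.Normal).conj_mem _ (Q.mul_mem hq (Q.inv_mem (hQα q hq))) s
      obtain ⟨u, v, huv, hu, hv, hvI, _, a, hua⟩ := split (alpha_cm h2 (s * q))
      rw [← hy] at huv hu hv
      have hyx : (QuotientGroup.mk y : G ⧸ Q) = QuotientGroup.mk x := by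
        rw [← div_eq_one, ← QuotientGroup.mk_div, QuotientGroup.eq_one_iff, div_eq_mul_inv]
        exact hyQ
      have huQ : u ∈ Q := by
        rw [← QuotientGroup.eq_one_iff]
        have d1 : orderOf (QuotientGroup.mk u : G ⧸ Q) ∣ orderOf u :=
          orderOf_map_dvd (QuotientGroup.mk' Q) u
        have d2 : orderOf (QuotientGroup.mk u : G ⧸ Q) ∣ orderOf x := by
          obtain ⟨i, rfl⟩ := mem_zpowers_iff.1 hu
          refine dvd_trans ?_ (orderOf_map_dvd (QuotientGroup.mk' Q) x)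
          refine orderOf_dvd_of_pow_eq_one ?_
          rw [QuotientGroup.mk_zpow, hyx, ← zpow_natCast, ← zpow_mul, mul_comm, zpow_mul, zpow_natCast,
            QuotientGroup.mk'_apply, pow_orderOf_eq_one, one_zpow]
        rw [← orderOf_eq_one_iff]
        refine Nat.eq_one_of_dvd_coprimes ?_ (hua ▸ d1) d2
        exact (Nat.coprime_two_left.2 hx.1).pow_left a
      have hvQ : v * x⁻¹ ∈ Q := by
        have : v * x⁻¹ = u⁻¹ * (y * x⁻¹) := by rw [← huv]; group
        rw [this]; exact Q.mul_mem (Q.inv_mem huQ) hyQ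
      obtain ⟨hwQ, hwx⟩ := hw ⟨v, hvI⟩ hvQ
      have huv' : u * v = v * u := by
        obtain ⟨i, rfl⟩ := mem_zpowers_iff.1 hu
        obtain ⟨j, rfl⟩ := mem_zpowers_iff.1 hv
        rw [← zpow_add, ← zpow_add, add_comm]
      set W := w ⟨v, hvI⟩
      have hcQ : W⁻¹ * u * W ∈ Q := Q.mul_mem (Q.mul_mem (Q.inv_mem hwQ) huQ) hwQ
      have hcC : (⟨_, hcQ⟩ : Q) ∈ C := by
        rw [mem_subgroupOf, mem_centralizer_singleton_iff]
        have hx' : x = W⁻¹ * v * W := by rw [show v = W * x * W⁻¹ from hwx.symm]; group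
        show W⁻¹ * u * W * x = x * (W⁻¹ * u * W)
        rw [hx']
        calc W⁻¹ * u * W * (W⁻¹ * v * W) = W⁻¹ * (u * v) * W := by group
          _ = W⁻¹ * (v * u) * W := by rw [huv']
          _ = _ := by group
      refine ⟨(⟨v, hvI⟩, ⟨_, hcC⟩), ?_⟩
      show W * (W⁻¹ * u * W) * W⁻¹ * v = y
      rw [← huv]; group
    have h1 : Nat.card Q ≤ k * (m * Nat.card C) := by
      have e1 : ((fun q => s * q) '' (Q : Set G)).ncard = Nat.card Q := by
        rw [Set.ncard_image_of_injective _ (mul_right_injective s), ← Nat.card_coe_set_eq]; rfl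
      rw [← e1]
      refine (ncard_le_fix_mul α _).trans (Nat.mul_le_mul le_rfl ?_)
      refine (Set.ncard_le_ncard hsub).trans ?_
      rw [← Nat.card_coe_set_eq]
      refine (Finite.card_range_le F).trans ?_
      rw [Nat.card_prod, Nat.card_coe_set_eq]
    rw [← C.index_mul_card, ← mul_assoc] at h1
    exact Nat.le_of_mul_le_mul_right h1 Nat.card_pos
  have : Fintype ↥(invSet α) := Fintype.ofFinite _
  let f : ↥(invSet α) → Subgroup Q := fun x => (centralizer ({(x : G)} : Set G)).subgroupOf Q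
  have hbot : ⨅ x, f x = ⊥ := by
    rw [eq_bot_iff]
    intro q hq
    rw [mem_iInf] at hq
    have hc : (q : G) ∈ center G := mem_center_of_generated hgen fun x hx =>
      mem_centralizer_singleton_iff.1 (mem_subgroupOf.1 (hq ⟨x, hx⟩))
    have : (q : G) ∈ Q ⊓ center G := ⟨q.2, hc⟩
    rw [hZ] at this
    exact Subtype.ext this
  calc Nat.card Q = (⊥ : Subgroup Q).index := index_bot.symm
    _ = (⨅ x, f x).index := by rw [hbot]
    _ ≤ ∏ x, (f x).index := index_iInf_le f
    _ ≤ ∏ _x : ↥(invSet α), k * m := Finset.prod_le_prod' fun x _ => hidx x x.2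
    _ = _ := by rw [Finset.prod_const, Finset.card_univ, ← Nat.card_eq_fintype_card,
      Nat.card_coe_set_eq]

end Cfsg.Agent.H64.Inverted
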