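import Cfsg.Agent.H64.Inverted.Basic

/-!
Passing `invSet` and `fixSub` to quotients.
-/

set_option autoImplicit false

namespace Cfsg.Agent.H64.Inverted

open Subgroup

variable {G H : Type*} [Group G] [Group H] {α : MulAut G} {β : MulAut H} {φ : G →* H}

theorem map_invSet_subset (hc : ∀ g, φ (α g) = β (φ g)) : φ '' invSet α ⊆ invSet β := by
  rintro _ ⟨g, hg, rfl⟩
  refine ⟨hg.1.of_dvd_nat (orderOf_map_dvd φ g), ?_⟩
  rw [← hc, hg.2, map_inv]

theorem gen_map (hφ : Function.Surjective φ) (hc : ∀ g, φ (α g) = β (φ g))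
    (hgen : closure (invSet α) = ⊤) : closure (invSet β) = ⊤ := by
  rw [eq_top_iff]
  intro y _
  obtain ⟨g, rfl⟩ := hφ y
  have h : φ g ∈ (closure (invSet α)).map φ := mem_map_of_mem φ (hgen ▸ mem_top g)
  rw [MonoidHom.map_closure] at h
  exact closure_mono (map_invSet_subset hc) h

theorem inv_map (hφ : Function.Surjective φ) (hc : ∀ g, φ (α g) = β (φ g))
    (h2 : ∀ g, α (α g) = g) : ∀ y, β (β y) = y := by
  intro y
  obtain ⟨g, rfl⟩ := hφ y
  rw [← hc, ← hc, h2]

/-- Every inverted element of odd order of a quotient is the image of one. -/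
theorem invSet_subset_image [Finite G] (hφ : Function.Surjective φ)
    (hc : ∀ g, φ (α g) = β (φ g)) (h2 : ∀ g, α (α g) = g) : invSet β ⊆ φ '' invSet α := by
  intro y hy
  set N := 2 ^ Nat.card G
  obtain ⟨m', hm'⟩ := exists_pow_eq_self_of_coprime (x := y) (n := N)
    ((Nat.coprime_two_left.2 hy.1).pow_left _)
  obtain ⟨s, hs, hss⟩ := exists_sqrt (pow_mem_invSet hy m')
  obtain ⟨g, rfl⟩ := hφ s
  refine ⟨cm α g ^ N, ⟨?_, ?_⟩, ?_⟩
  · obtain ⟨a, b, hb, hab⟩ := Nat.exists_eq_two_pow_mul_odd (n := orderOf (cm α g))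
      (orderOf_pos _).ne'
    refine hb.of_dvd_nat (orderOf_dvd_of_pow_eq_one ?_)
    rw [← pow_mul, ← orderOf_dvd_iff_pow_eq_one, hab]
    refine Nat.mul_dvd_mul_right (pow_dvd_pow 2 ?_) b
    calc a ≤ 2 ^ a := Nat.lt_two_pow_self.le
      _ ≤ 2 ^ a * b := Nat.le_mul_of_pos_right _ hb.pos
      _ = orderOf (cm α g) := hab.symm
      _ ≤ Nat.card G := orderOf_le_card
  · rw [map_pow, alpha_cm h2, inv_pow]
  · have h : φ (cm α g) = φ g * φ g := by rw [cm, map_mul, map_inv, hc, hs.2, inv_inv]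
    rw [map_pow, h, hss, ← pow_mul, mul_comm, pow_mul, hm']

theorem ncard_invSet_map_le [Finite G] (hφ : Function.Surjective φ)
    (hc : ∀ g, φ (α g) = β (φ g)) (h2 : ∀ g, α (α g) = g) :
    (invSet β).ncard ≤ (invSet α).ncard :=
  (Set.ncard_le_ncard (invSet_subset_image hφ hc h2) ((Set.toFinite _).image _)).trans
    (Set.ncard_image_le (Set.toFinite _))

theorem ncard_invSet_map_lt [Finite G] (hφ : Function.Surjective φ)
    (hc : ∀ g, φ (α g) = β (φ g)) (h2 : ∀ g, α (α g) = g) {v : G} (hv : v ∈ invSet α)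
    (hv1 : v ≠ 1) (hvk : φ v = 1) : (invSet β).ncard < (invSet α).ncard := by
  refine lt_of_le_of_ne (ncard_invSet_map_le hφ hc h2) fun he => hv1 ?_
  have h1 : (φ '' invSet α).ncard = (invSet α).ncard :=
    le_antisymm (Set.ncard_image_le (Set.toFinite _))
      (he ▸ Set.ncard_le_ncard (invSet_subset_image hφ hc h2) ((Set.toFinite _).image _))
  exact (Set.ncard_image_iff (Set.toFinite _)).1 h1 hv (one_mem_invSet α) (by rw [hvk, map_one])

/-- Fixed points of a quotient by a kernel. -/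
theorem card_fix_map_le [Finite G] (hφ : Function.Surjective φ)
    (hc : ∀ g, φ (α g) = β (φ g)) :
    Nat.card (fixSub β) ≤ Nat.card (fixSub α) * Nat.card φ.ker := by
  set S : Set G := {g | cm α g ∈ φ.ker}
  have h1 : Nat.card (fixSub β) ≤ S.ncard := by
    have hS : ∀ y : fixSub β, (hφ y).choose ∈ S := by
      intro y
      have e := (hφ (y : H)).choose_spec
      show φ (cm α _) = 1
      rw [cm, map_mul, map_inv, hc, e, show β (y : H) = y from y.2, mul_inv_cancel]
    rw [← Nat.card_coe_set_eq]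
    refine Nat.card_le_card_of_injective (fun y : fixSub β => (⟨_, hS y⟩ : S)) fun a b hab => ?_
    have := congrArg φ (Subtype.mk.injEq _ _ _ _ ▸ hab :
      (hφ (a : H)).choose = (hφ (b : H)).choose)
    rw [(hφ (a : H)).choose_spec, (hφ (b : H)).choose_spec] at this
    exact Subtype.ext this
  refine h1.trans ((ncard_le_fix_mul α S).trans (Nat.mul_le_mul le_rfl ?_))
  rw [show Nat.card φ.ker = (φ.ker : Set G).ncard from (Nat.card_coe_set_eq _)]
  exact Set.ncard_le_ncard (by rintro _ ⟨g, hg, rfl⟩; exact hg)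

/-- The automorphism induced on a quotient by an invariant normal subgroup. -/
theorem exists_quotient_aut [Finite G] (α : MulAut G) (N : Subgroup G) [N.Normal]
    (hN : ∀ x ∈ N, α x ∈ N) :
    ∃ β : MulAut (G ⧸ N), ∀ g, QuotientGroup.mk' N (α g) = β (QuotientGroup.mk' N g) := by
  have h : N.map (α : G ≃* G).toMonoidHom = N := by
    refine eq_of_le_of_card_ge ?_ (le_of_eq ?_)
    · rintro _ ⟨x, hx, rfl⟩; exact hN x hx
    · exact (Subgroup.card_map_of_injective (MulEquiv.injective α)).symm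
  exact ⟨QuotientGroup.congr N N α h, fun g => (QuotientGroup.congr_mk N N α h g).symm⟩

end Cfsg.Agent.H64.Inverted
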